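import Groth.Agent.GlobalContrLib.Contract

/-!
# Contraction of a line of negative self-intersection
-/

set_option autoImplicit false
set_option linter.style.haveILetI false
set_option backward.isDefEq.respectTransparency false
set_option backward.isDefEq.respectTransparency.types false
set_option maxHeartbeats 1000000
universe u

open CategoryTheory CategoryTheory.Limits AlgebraicGeometry TopologicalSpace
open AmpleLib AmpleThLib
open TwistLib (genSet)
open KFlatLib (pb puSec)
open CubeConsLib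
open HilbPolyLib (assocIso congrLeft congrRight swapIso unitLeft)

noncomputable section

namespace GlobalContrLib.Neg

variable {R : Type u} [CommRing R] [IsNoetherianRing R] {X : Scheme.{u}}
  (q : X ⟶ Spec (CommRingCat.of R)) [IsProper q]
  {k : Type u} [Field k] (j : CohB1.ProjSpace 1 k ⟶ X) [IsClosedImmersion j]
variable {N LE : X.Modules} (hN : PicF.IsInvertible N) (hLEi : PicF.IsInvertible LE)
  (hLE : ClSub.IsInverseOf LE (ClSub.idealMod j.ker))

include hN hLEi in
theorem deg_twist {a : ℤ} (hd1 : Curv2.deg k _ (pb j N) 1 = a) {e : ℤ} (he : Curv2.deg k _ (pb j LE) 1 = -e) :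
    ∀ i : ℕ, Curv2.deg k _ (pb j (CohB1.tensorMod N (CohB1.tensorPow LE i))) 1 = a - e * i := by
  haveI : IsIntegral (CohB1.ProjSpace 1 k) := GenusZeroLib.isIntegral_projSpace k 1
  intro i
  induction i with
  | zero =>
    rw [Nat.cast_zero, mul_zero, sub_zero, ← hd1]
    exact CurvLib.deg_congr ((Scheme.Modules.pullback j).mapIso (swapIso _ _ ≪≫ unitLeft N)) 1
  | succ i ih =>
    refine (CurvLib.deg_congr ((Scheme.Modules.pullback j).mapIso (assocIso N (CohB1.tensorPow LE i) LE).symm ≪≫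
        PicPnLib.pullTens j _ LE) 1).trans ?_
    rw [GenusZeroLib.deg_tensor k (VBP1Lib.dim_line k) (AmpleDevLib.isInvertible_pb j (isInvertible_twist hN hLEi i))
        (AmpleDevLib.isInvertible_pb j hLEi), ih, he]
    push_cast
    ring

include q hN hLEi hLE in
/-- `H¹` of the twists vanishes as long as the degree on the line stays nonnegative. -/
theorem h1_twist {a : ℤ} (hd1 : Curv2.deg k _ (pb j N) 1 = a) {e : ℕ} (he : Curv2.deg k _ (pb j LE) 1 = -(e : ℤ))
    (h1 : Subsingleton (Coh.HH X N 1)) :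
    ∀ i : ℕ, ((e * i : ℕ) : ℤ) ≤ a → Subsingleton (Coh.HH X (CohB1.tensorMod N (CohB1.tensorPow LE i)) 1) := by
  intro i
  induction i with
  | zero => exact fun _ => SerreVanLib.subsingleton_HH_of_iso (swapIso _ _ ≪≫ unitLeft N) 1 h1
  | succ i ih =>
    intro hi
    obtain ⟨T, hT, ⟨e₁⟩, ⟨e₂⟩, ⟨e₃⟩⟩ := exists_twist_seq j hN hLEi hLE i
    have hM := isInvertible_twist hN hLEi (i + 1)
    have hC := (line_facts (AmpleDevLib.isInvertible_pb j hM)).2 (by
      rw [deg_twist j hN hLEi hd1 he]; push_cast at hi ⊢; linarith)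
    haveI : Coh.IsQCoh (pb j (CohB1.tensorMod N (CohB1.tensorPow LE (i + 1)))) :=
      (CurvLib.isCoh_of_isInvertible (AmpleDevLib.isInvertible_pb j hM)).1
    obtain ⟨E⟩ := QCohLib.nonempty_HH_push j (pb j (CohB1.tensorMod N (CohB1.tensorPow LE (i + 1)))) 1
    have hsurj := (EvGGLib.step q hT e₁ e₂ e₃).1 E.symm.toEquiv.subsingleton
    have := ih (le_trans (by exact_mod_cast Nat.mul_le_mul_left e (Nat.le_succ i)) hi)
    exact hsurj.subsingleton

include q hN hLEi hLE in
/-- The twist of degree zero on the line is globally generated. -/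
theorem gg_twist {d : ℕ} (hd : 0 < d) {e : ℕ} (hd1 : Curv2.deg k _ (pb j N) 1 = ((e * d : ℕ) : ℤ))
    (he : Curv2.deg k _ (pb j LE) 1 = -(e : ℤ)) (h1 : Subsingleton (Coh.HH X N 1))
    (hgg : Curv2.IsGloballyGenerated N) :
    Curv2.IsGloballyGenerated (CohB1.tensorMod N (CohB1.tensorPow LE d)) ∧
      Nonempty (pb j (CohB1.tensorMod N (CohB1.tensorPow LE d)) ≅ Coh.structureModule _) := by
  obtain ⟨i, rfl⟩ : ∃ i, d = i + 1 := ⟨d - 1, by omega⟩
  have hM := isInvertible_twist hN hLEi (i + 1)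
  have hjM := AmpleDevLib.isInvertible_pb j hM
  obtain ⟨t⟩ := (line_facts hjM).1 (by rw [deg_twist j hN hLEi hd1 he]; push_cast; ring)
  obtain ⟨sE, hsE⟩ := ContractLib.exists_section hLEi hLE
  refine ⟨MiscFlat6.isGloballyGenerated_of_genSections hM fun x => ?_, ⟨t⟩⟩
  by_cases hx : x ∈ (j.ker.support : Set X)
  · rw [Scheme.Hom.support_ker, j.isClosedEmbedding.isClosed_range.closure_eq] at hx
    obtain ⟨z, rfl⟩ := hx
    obtain ⟨T, hT, ⟨e₁⟩, ⟨e₂⟩, ⟨e₃⟩⟩ := exists_twist_seq j hN hLEi hLE i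
    have hsub := h1_twist q j hN hLEi hLE hd1 he h1 i (by exact_mod_cast Nat.mul_le_mul_left e (Nat.le_succ i))
    let τ : Γ(pb j (CohB1.tensorMod N (CohB1.tensorPow LE (i + 1))), ⊤) :=
      t.inv.app ⊤ (1 : Γ(CohB1.ProjSpace 1 k, ⊤))
    have hτ : z ∈ genSet hjM τ :=
      (AmpleThLib.genSet_iso CurvLib.isInvertible_structureModule hjM t.symm
        (show Γ(Coh.structureModule (CohB1.ProjSpace 1 k), ⊤) from (1 : Γ(CohB1.ProjSpace 1 k, ⊤)))).ge
        ((one_genOn (⊤ : (CohB1.ProjSpace 1 k).Opens)).genAt trivial)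
    obtain ⟨σ, hσ⟩ := (EvGGLib.step q hT e₁ e₂ e₃).2 (Function.injective_of_subsingleton _) τ
    exact ⟨σ, EvGGLib.mem_genSet_of_image j hM hjM (e₂.inv ≫ T.g ≫ e₃.hom) σ z
      ((congrArg (fun t => z ∈ genSet hjM t) hσ).mpr hτ)⟩
  · obtain ⟨τ, hτ⟩ := Groth.Agent.S1611.exists_genAt_of_gg hN hgg x
    exact ⟨shT τ (pS sE (i + 1)), (genSet_shT hN (AmpleThLib.tensorPow_isInvertible hLEi (i + 1)) τ _).ge
      ⟨hτ, (AmpleThLib.genSet_pS hLEi sE (Nat.succ_pos i)).ge ((hsE x).2 hx)⟩⟩


end GlobalContrLib.Neg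

namespace GlobalContrLib.Neg

variable {R : Type u} [CommRing R] [IsNoetherianRing R]

set_option maxHeartbeats 2000000 in
/-- A line of negative self-intersection contracts to a normal projective scheme. -/
theorem exists_contraction {X : Scheme.{u}} (q : X ⟶ Spec (CommRingCat.of R)) [IsProper q] [IsIntegral X]
    (hreg : ∀ x : X, IsRegularLocalRing (X.presheaf.stalk x)) {H : X.Modules} (hH : PicF.IsInvertible H)
    (hHA : CohB1.IsAmple H) {k : Type u} [Field k] (j : CohB1.ProjSpace 1 k ⟶ X) [IsClosedImmersion j]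
    (hI : BlowUp.IsEffCartierIdeal j.ker) {LE : X.Modules} (hLE : ClSub.IsInverseOf LE (ClSub.idealMod j.ker))
    {e : ℕ} (he0 : 0 < e) (he : Curv2.deg k _ (pb j LE) 1 = -(e : ℤ)) :
    ∃ (Y : Scheme.{u}) (h : Y ⟶ Spec (CommRingCat.of R)) (f : X ⟶ Y) (y : Y) (hy : IsClosed ({y} : Set Y)),
      f ≫ h = q ∧ IsIntegral Y ∧ IsProper h ∧ IsProper f ∧ Surjective f ∧
      Neron.IsProjectiveOver R (Over.mk h) ∧ (∀ z : Y, IsIntegrallyClosed (Y.presheaf.stalk z)) ∧
      f ⁻¹' {y} = Set.range j ∧ IsIso (f ∣_ (⟨{y}ᶜ, hy.isOpen_compl⟩ : Y.Opens)) := by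
  classical
  haveI : CompactSpace X := QuasiCompact.compactSpace_of_compactSpace q
  haveI : IsLocallyNoetherian X := LocallyOfFiniteType.isLocallyNoetherian q
  haveI : X.IsSeparated := Scheme.IsSeparated.mk (by
    rw [terminal.hom_ext (terminal.from X) (q ≫ terminal.from _)]
    infer_instance)
  haveI : IsIntegral (CohB1.ProjSpace 1 k) := GenusZeroLib.isIntegral_projSpace k 1
  haveI : CompactSpace ↥(CohB1.ProjSpace 1 k) :=
    QuasiCompact.compactSpace_of_compactSpace (CohB1.ProjSpace 1 k ↘ Spec (CommRingCat.of k))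
  have hnor : ∀ x : X, IsIntegrallyClosed (X.presheaf.stalk x) := fun x =>
    haveI := hreg x
    Groth.Agent.S9829.result _
  have hd1 := VBP1Lib.dim_line k
  have hh1 : Subsingleton (Coh.HH (CohB1.ProjSpace 1 k) (Coh.structureModule _) 1) := VBP1Lib.h1_structure k
  have hK := IntMultLib.isInvertible_idealMod _ hI
  have hLEi : PicF.IsInvertible LE := VertIntLib.isInvertible_inverse hI hLE
  obtain ⟨n, hn⟩ : ∃ n : ℕ, Curv2.deg k _ (pb j H) 1 = (n : ℤ) := ⟨_, (Int.toNat_of_nonneg
    (SerreVanLib.deg_pos_of_isAmple (k := k) hd1 (AmpleDevLib.isAmple_pb (f := j) hH hHA)).le).symm⟩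
  have hn0 : 0 < n := by
    have := SerreVanLib.deg_pos_of_isAmple (k := k) hd1 (AmpleDevLib.isAmple_pb (f := j) hH hHA)
    omega
  -- a high power
  obtain ⟨n₁, hn₁⟩ := SerreVanLib.exists_vanishing q hH hHA (Coh.structureModule X)
    (DevissLib.isCoh_structureModule _)
  obtain ⟨n₂, hn₂0, hn₂⟩ := Groth.Agent.S2329.result X H (Coh.structureModule X) hHA
    CurvLib.isInvertible_structureModule
  let m := e * (n₁ + n₂)
  have hm : n₁ + n₂ ≤ m := Nat.le_mul_of_pos_left _ he0
  let N := CohB1.tensorPow H m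
  have hN : PicF.IsInvertible N := AmpleThLib.tensorPow_isInvertible hH m
  have hNA : CohB1.IsAmple N := (AmpleThLib.isAmple_tensorPow_iff hH (n := m) (by omega)).1 hHA
  have hN1 : Subsingleton (Coh.HH X N 1) :=
    SerreVanLib.subsingleton_HH_of_iso (unitLeft N).symm 1 (hn₁ m (by omega) 1 one_pos)
  have hNgg : Curv2.IsGloballyGenerated N :=
    MiscFlat6.isGloballyGenerated_of_iso (swapIso _ _ ≪≫ unitLeft _) (hn₂ m (by omega)).2
  let d := (n₁ + n₂) * n
  have hd : 0 < d := Nat.mul_pos (by omega) hn0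
  have hdN : Curv2.deg k _ (pb j N) 1 = ((e * d : ℕ) : ℤ) := by
    have hp : ∀ i : ℕ, Curv2.deg k _ (pb j (CohB1.tensorPow H i)) 1 = (i : ℤ) * n := by
      intro i
      induction i with
      | zero =>
        refine (CurvLib.deg_congr (KFlatLib.pullUnitIso j : pb j (CohB1.tensorPow H 0) ≅ _) 1).trans ?_
        rw [Curv2.deg]
        push_cast
        ring
      | succ i ih =>
        refine (CurvLib.deg_congr (PicPnLib.pullTens j (CohB1.tensorPow H i) H) 1).trans ?_
        rw [GenusZeroLib.deg_tensor k hd1 (AmpleDevLib.isInvertible_pb j (AmpleThLib.tensorPow_isInvertible hH i))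
          (AmpleDevLib.isInvertible_pb j hH), ih, hn]
        push_cast
        ring
    rw [hp m]
    simp only [d, m]
    push_cast
    ring
  obtain ⟨hgg, htriv⟩ := gg_twist q j hN hLEi hLE hd hdN he hN1 hNgg
  have hL := isInvertible_twist hN hLEi d
  obtain ⟨Y, h, f, A, hfh, hph, hpf, hsur, happ, hYi, hYn, hYp, hA, ⟨eA⟩⟩ :=
    ContractLib.exists_stein q hnor hL hgg
  haveI := hph
  haveI := hpf
  haveI := hYi
  haveI : IsLocallyNoetherian Y := LocallyOfFiniteType.isLocallyNoetherian h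
  haveI : CompactSpace Y := QuasiCompact.compactSpace_of_compactSpace h
  haveI : Y.IsSeparated := Scheme.IsSeparated.mk (by
    rw [terminal.hom_ext (terminal.from Y) (h ≫ terminal.from _)]
    infer_instance)
  haveI : QuasiSeparatedSpace X := AmpleThLib.quasiSeparatedSpace_of_isAmple hHA
  -- the line goes to one closed point
  obtain ⟨c, -, hc⟩ := isClosed_univ.exists_closed_singleton (S := (Set.univ : Set (CohB1.ProjSpace 1 k)))
    Set.univ_nonempty
  let y := f (j c)
  have hy : IsClosed ({y} : Set Y) := by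
    have := (j ≫ f).isClosedMap _ hc
    rwa [Set.image_singleton] at this
  have hline : ∀ z, f (j z) = y := fun z => by
    obtain ⟨s⟩ := htriv
    exact ContractLib.subsingleton_range_of_trivial (CohB1.ProjSpace 1 k ↘ Spec (CommRingCat.of k)) (j ≫ f) hA
      ⟨((Scheme.Modules.pullbackComp j f).app A).symm ≪≫ (Scheme.Modules.pullback j).mapIso eA ≪≫ s⟩
      (z := c) hy z
  have hsep : ∀ x w : X, x ∉ Set.range j → x ∉ closure ({w} : Set X) → f x ≠ f w := fun x w hx hw =>
    separate j hN hNA hLEi hLE hd f happ hA.1 ⟨eA⟩ hx hw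
  have hoff : ∀ x, x ∉ Set.range j → ∀ z, f x ≠ f (j z) := fun x hx z => hsep x (j z) hx fun h =>
    hx (closure_minimal (Set.singleton_subset_iff.2 (Set.mem_range_self z)) j.isClosedEmbedding.isClosed_range h)
  have hpre : f ⁻¹' {y} = Set.range j := Set.ext fun x =>
    ⟨fun hx => by_contra fun h => hoff x h c hx, fun ⟨z, hz⟩ => hz ▸ hline z⟩
  haveI hiso : IsIso (f ∣_ (⟨{y}ᶜ, hy.isOpen_compl⟩ : Y.Opens)) := by
    refine isIso_over_of_injective f happ _ fun x w hx hxw => by_contra fun hne => ?_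
    have hxj : x ∉ Set.range j := fun ⟨z, hz⟩ => (show f x ≠ y from hx) (hz ▸ hline z)
    have hwj : w ∉ Set.range j := fun ⟨z, hz⟩ => (show f x ≠ y from hx) (hxw.trans (hz ▸ hline z))
    rcases Classical.em (x ∈ closure ({w} : Set X)) with h1 | h1
    · refine hsep w x hwj (fun h2 => hne ?_) hxw.symm
      exact (Specializes.antisymm (specializes_iff_mem_closure.2 h2) (specializes_iff_mem_closure.2 h1)).eq
    · exact hsep x w hxj h1 hxw
  exact ⟨Y, h, f, y, hy, hfh, hYi, hph, hpf, hsur, hYp, hYn, hpre, hiso⟩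

end GlobalContrLib.Neg

end
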